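/-
Pumping up: a quasisimple subnormal subgroup `K` of `C_X(a)`, `a² = 1`, contained in the layer of `X`,
is contained in a component `J` of `X` or is the diagonal `{j j^a}` of a pair `J ≠ J^a` of components.
-/
import Cfsg.Agent.Lib.Components.Basic
import Cfsg.Agent.Lib.LBalance.Basic

set_option autoImplicit false
set_option linter.style.haveILetI false
set_option linter.unusedSectionVars false

namespace Cfsg.Agent.Lib.StdComp.Pump

open Subgroup Cfsg Cfsg.Agent.Lib.Components.Basic Cfsg.Agent.Lib.LBalance.Basic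
open scoped commutatorElement

variable {X : Type*} [Group X]

/-- The layer normalizes each component. -/
theorem conj_mem_of_mem_layer {J : Subgroup X} (hJ : IsComponent J) {k : X} (hk : k ∈ layer X) {j : X}
    (hj : j ∈ J) : k * j * k⁻¹ ∈ J := by
  have hb : ⁅J, centralizer (J : Set X)⁆ = ⊥ := by
    rw [commutator_eq_bot_iff_le_centralizer, le_centralizer_iff]
  obtain ⟨x, hx, c, hc, rfl⟩ := mem_sup_of_commutator_eq_bot hb (layer_le_sup_centralizer hJ hk)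
  have h1 : c * j = j * c := (mem_centralizer_iff.mp hc j hj).symm
  have e : x * c * j * (x * c)⁻¹ = x * j * x⁻¹ := by
    calc x * c * j * (x * c)⁻¹ = x * (c * j) * c⁻¹ * x⁻¹ := by group
      _ = x * (j * c) * c⁻¹ * x⁻¹ := by rw [h1]
      _ = x * j * x⁻¹ := by group
  rw [e]
  exact J.mul_mem (J.mul_mem hx hj) (J.inv_mem hx)

/-- An element of the layer is a product of an element of `J` and an element centralizing `J`. -/
theorem exists_decomp {J : Subgroup X} (hJ : IsComponent J) {k : X} (hk : k ∈ layer X) :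
    ∃ j ∈ J, ∃ c, (∀ x ∈ J, c * x = x * c) ∧ j * c = k := by
  have hb : ⁅J, centralizer (J : Set X)⁆ = ⊥ := by
    rw [commutator_eq_bot_iff_le_centralizer, le_centralizer_iff]
  obtain ⟨x, hx, c, hc, rfl⟩ := mem_sup_of_commutator_eq_bot hb (layer_le_sup_centralizer hJ hk)
  exact ⟨x, hx, c, fun y hy => (mem_centralizer_iff.mp hc y hy).symm, rfl⟩

/-- If `K` is perfect, normalizes `J`, `y` centralizes `J` and `K` commutes with `K^y` then `K`
centralizes `J`. -/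
theorem centralizes_of_comm_conj {K J : Subgroup X} {y : X} (hP : ⁅K, K⁆ = K)
    (hn : ∀ k ∈ K, ∀ j ∈ J, k * j * k⁻¹ ∈ J) (hy : ∀ j ∈ J, y * j = j * y)
    (hc : ∀ k ∈ K, ∀ k' ∈ K, k * (y * k' * y⁻¹) = (y * k' * y⁻¹) * k) :
    K ≤ centralizer (J : Set X) := by
  have hact : ∀ k' ∈ K, ∀ j ∈ J, (y * k' * y⁻¹) * j * (y * k' * y⁻¹)⁻¹ = k' * j * k'⁻¹ := by
    intro k' hk' j hj
    have h1 : y⁻¹ * j * y = j := by
      have := hy j hj
      calc y⁻¹ * j * y = y⁻¹ * (j * y) := by group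
        _ = y⁻¹ * (y * j) := by rw [this]
        _ = j := by group
    have h2 := hy _ (hn k' hk' j hj)
    calc (y * k' * y⁻¹) * j * (y * k' * y⁻¹)⁻¹ = y * k' * (y⁻¹ * j * y) * k'⁻¹ * y⁻¹ := by group
      _ = y * (k' * j * k'⁻¹) * y⁻¹ := by rw [h1]; group
      _ = (k' * j * k'⁻¹) * y * y⁻¹ := by rw [h2]
      _ = k' * j * k'⁻¹ := by group
  have h6 : ∀ k ∈ K, ∀ k' ∈ K, ∀ j ∈ J, (k * k') * j * (k * k')⁻¹ = (k' * k) * j * (k' * k)⁻¹ := by
    intro k hk k' hk' j hj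
    have h3 := hact k' hk' _ (hn k hk j hj)
    have h4 := hact k' hk' j hj
    have h1 := hc k hk k' hk'
    calc (k * k') * j * (k * k')⁻¹ = k * (k' * j * k'⁻¹) * k⁻¹ := by group
      _ = k * ((y * k' * y⁻¹) * j * (y * k' * y⁻¹)⁻¹) * k⁻¹ := by rw [h4]
      _ = (k * (y * k' * y⁻¹)) * j * (k * (y * k' * y⁻¹))⁻¹ := by group
      _ = ((y * k' * y⁻¹) * k) * j * ((y * k' * y⁻¹) * k)⁻¹ := by rw [h1]
      _ = (y * k' * y⁻¹) * (k * j * k⁻¹) * (y * k' * y⁻¹)⁻¹ := by group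
      _ = k' * (k * j * k⁻¹) * k'⁻¹ := h3
      _ = (k' * k) * j * (k' * k)⁻¹ := by group
  conv_lhs => rw [← hP]
  rw [commutator_le]
  intro k hk k' hk'
  rw [mem_centralizer_iff]
  intro j hj
  -- `j₁ = (k' k)⁻¹ j (k' k) ∈ J`
  have hj₁ : (k' * k)⁻¹ * j * (k' * k) ∈ J := by
    have h1 := hn _ (K.inv_mem (K.mul_mem hk' hk)) j hj
    simpa using h1
  have h2 := h6 k hk k' hk' _ hj₁
  have e1 : (k' * k) * ((k' * k)⁻¹ * j * (k' * k)) * (k' * k)⁻¹ = j := by group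
  rw [e1] at h2
  have e2 : ⁅k, k'⁆ * j * ⁅k, k'⁆⁻¹ = (k * k') * ((k' * k)⁻¹ * j * (k' * k)) * (k * k')⁻¹ := by
    rw [commutatorElement_def]; group
  have e3 : ⁅k, k'⁆ * j * ⁅k, k'⁆⁻¹ = j := by rw [e2, h2]
  calc j * ⁅k, k'⁆ = (⁅k, k'⁆ * j * ⁅k, k'⁆⁻¹) * ⁅k, k'⁆ := by rw [e3]
    _ = ⁅k, k'⁆ * j := by group

/-- Two conjugates of a component of `Z` coincide or commute, in terms of elements. -/
theorem conj_mem_or_comm {Z K : Subgroup X} (hKZ : K ≤ Z) (hK₀ : IsComponent (K.subgroupOf Z)) {y : X}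
    (hy : y ∈ Z) : (∀ k ∈ K, y * k * y⁻¹ ∈ K) ∨
      (∀ k ∈ K, ∀ k' ∈ K, k * (y * k' * y⁻¹) = (y * k' * y⁻¹) * k) := by
  have hcomp := isComponent_conj (⟨y, hy⟩ : Z) hK₀
  have hmem : ∀ (k : X) (hk : k ∈ K), (⟨y * k * y⁻¹, Z.mul_mem (Z.mul_mem hy (hKZ hk)) (Z.inv_mem hy)⟩ : Z) ∈
      (K.subgroupOf Z).map (MulAut.conj (⟨y, hy⟩ : Z)).toMonoidHom := by
    intro k hk
    refine ⟨⟨k, hKZ hk⟩, hk, ?_⟩
    apply Subtype.ext
    simp [MulAut.conj_apply]
  rcases component_eq_or_commutator_eq_bot hK₀ hcomp with he | hc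
  · left
    intro k hk
    have h2 := hmem k hk
    rw [← he] at h2
    exact h2
  · right
    intro k hk k' hk'
    have h1 := Subgroup.commutator_mem_commutator
      (show (⟨k, hKZ hk⟩ : Z) ∈ K.subgroupOf Z from hk) (hmem k' hk')
    rw [hc, mem_bot, commutatorElement_eq_one_iff_mul_comm] at h1
    exact congrArg Subtype.val h1

/-- `[k, y]` is central in `K`, if `y` normalizes `K` and centralizes `J`. -/
theorem commutator_central {K J : Subgroup X} {y : X} (hq : IsQuasisimple K)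
    (hn : ∀ k ∈ K, ∀ j ∈ J, k * j * k⁻¹ ∈ J) (hnc : ¬ K ≤ centralizer (J : Set X))
    (hy : ∀ j ∈ J, y * j = j * y) (hyK : ∀ k ∈ K, y * k * y⁻¹ ∈ K) {k : X} (hk : k ∈ K) :
    k * y * k⁻¹ * y⁻¹ ∈ centralizer (K : Set X) := by
  have hN : ((centralizer (J : Set X)).subgroupOf K).Normal := by
    constructor
    intro n hn' g
    rw [mem_subgroupOf] at hn' ⊢
    rw [mem_centralizer_iff] at hn' ⊢
    intro j hj
    have h1 := hn' _ (hn _ (K.inv_mem g.2) j hj)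
    simp only [Subgroup.coe_mul, Subgroup.coe_inv]
    have e1 : (g : X)⁻¹ * j * (g : X)⁻¹⁻¹ * n = n * ((g : X)⁻¹ * j * (g : X)⁻¹⁻¹) := h1
    simp only [inv_inv] at e1
    calc j * ((g : X) * n * (g : X)⁻¹) = (g : X) * (((g : X)⁻¹ * j * g) * n) * (g : X)⁻¹ := by group
      _ = (g : X) * (n * ((g : X)⁻¹ * j * g)) * (g : X)⁻¹ := by rw [e1]
      _ = (g : X) * n * (g : X)⁻¹ * j := by group
  have hc : (centralizer (J : Set X)).subgroupOf K ≤ center K := by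
    rcases normal_eq_top_or_le_center hq ((centralizer (J : Set X)).subgroupOf K) with ht | hc
    · exact absurd (subgroupOf_eq_top.mp ht) hnc
    · exact hc
  have hmem : k * y * k⁻¹ * y⁻¹ ∈ K := by
    have h1 := hyK _ (K.inv_mem hk)
    have e : k * y * k⁻¹ * y⁻¹ = k * (y * k⁻¹ * y⁻¹) := by group
    rw [e]
    exact K.mul_mem hk h1
  have hmemC : k * y * k⁻¹ * y⁻¹ ∈ centralizer (J : Set X) := by
    rw [mem_centralizer_iff]
    intro j hj
    have hj₁ := hn _ (K.inv_mem hk) j hj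
    simp only [inv_inv] at hj₁
    have h1 := hy _ hj₁
    have h2 := hy j hj
    have e1 : y⁻¹ * j = j * y⁻¹ := by
      calc y⁻¹ * j = y⁻¹ * (j * y) * y⁻¹ := by group
        _ = y⁻¹ * (y * j) * y⁻¹ := by rw [h2]
        _ = j * y⁻¹ := by group
    calc j * (k * y * k⁻¹ * y⁻¹) = k * (k⁻¹ * j * k) * y * k⁻¹ * y⁻¹ := by group
      _ = k * ((k⁻¹ * j * k) * y) * k⁻¹ * y⁻¹ := by group
      _ = k * (y * (k⁻¹ * j * k)) * k⁻¹ * y⁻¹ := by rw [h1]
      _ = k * y * k⁻¹ * (j * y⁻¹) := by group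
      _ = k * y * k⁻¹ * (y⁻¹ * j) := by rw [e1]
      _ = k * y * k⁻¹ * y⁻¹ * j := by group
  have h3 := hc (show (⟨_, hmem⟩ : K) ∈ (centralizer (J : Set X)).subgroupOf K from hmemC)
  rw [mem_centralizer_iff]
  intro k' hk'
  have := mem_center_iff.mp h3 ⟨k', hk'⟩
  exact congrArg Subtype.val this

/-- Commutators of products with commuting factors. -/
theorem commutator_mul_of_commute {d₁ d₂ w₁ w₂ : X} (h11 : d₁ * w₁ = w₁ * d₁) (h12 : d₁ * w₂ = w₂ * d₁)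
    (h21 : d₂ * w₁ = w₁ * d₂) (h22 : d₂ * w₂ = w₂ * d₂) :
    ⁅d₁ * w₁, d₂ * w₂⁆ = ⁅d₁, d₂⁆ * ⁅w₁, w₂⁆ := by
  have e1 : d₁ * w₁ * (d₂ * w₂) = (d₁ * d₂) * (w₁ * w₂) := by
    calc d₁ * w₁ * (d₂ * w₂) = d₁ * (w₁ * d₂) * w₂ := by group
      _ = d₁ * (d₂ * w₁) * w₂ := by rw [h21]
      _ = _ := by group
  have e2 : d₂ * w₂ * (d₁ * w₁) = (d₂ * d₁) * (w₂ * w₁) := by
    calc d₂ * w₂ * (d₁ * w₁) = d₂ * (w₂ * d₁) * w₁ := by group
      _ = d₂ * (d₁ * w₂) * w₁ := by rw [h12]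
      _ = _ := by group
  have e3 : ⁅d₁ * w₁, d₂ * w₂⁆ = (d₁ * w₁ * (d₂ * w₂)) * (d₂ * w₂ * (d₁ * w₁))⁻¹ := by
    rw [commutatorElement_def]; group
  have hc : ∀ u, (u = d₁ ∨ u = d₂) → u * (w₁ * w₂ * (w₂ * w₁)⁻¹) = (w₁ * w₂ * (w₂ * w₁)⁻¹) * u := by
    rintro u (rfl | rfl)
    · have : Commute u (w₁ * w₂ * (w₂ * w₁)⁻¹) := by
        have c1 : Commute u w₁ := h11
        have c2 : Commute u w₂ := h12
        exact ((c1.mul_right c2).mul_right ((c2.mul_right c1).inv_right))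
      exact this
    · have : Commute u (w₁ * w₂ * (w₂ * w₁)⁻¹) := by
        have c1 : Commute u w₁ := h21
        have c2 : Commute u w₂ := h22
        exact ((c1.mul_right c2).mul_right ((c2.mul_right c1).inv_right))
      exact this
  have hcc : (d₂ * d₁)⁻¹ * (w₁ * w₂ * (w₂ * w₁)⁻¹) = (w₁ * w₂ * (w₂ * w₁)⁻¹) * (d₂ * d₁)⁻¹ := by
    have c1 : Commute d₁ (w₁ * w₂ * (w₂ * w₁)⁻¹) := hc d₁ (Or.inl rfl)
    have c2 : Commute d₂ (w₁ * w₂ * (w₂ * w₁)⁻¹) := hc d₂ (Or.inr rfl)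
    exact ((c2.mul_left c1).inv_left)
  rw [e3, e1, e2]
  calc (d₁ * d₂) * (w₁ * w₂) * ((d₂ * d₁) * (w₂ * w₁))⁻¹
      = (d₁ * d₂) * (w₁ * w₂ * (w₂ * w₁)⁻¹) * (d₂ * d₁)⁻¹ := by group
    _ = (d₁ * d₂) * ((d₂ * d₁)⁻¹ * (w₁ * w₂ * (w₂ * w₁)⁻¹)) := by rw [mul_assoc, ← hcc]
    _ = ⁅d₁, d₂⁆ * ⁅w₁, w₂⁆ := by
        rw [commutatorElement_def, commutatorElement_def]; group

theorem pump {a : X} (ha : a * a = 1) {K : Subgroup X}
    (hKa : ∀ k ∈ K, k * a = a * k)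
    (hs : (K.subgroupOf (centralizer ({a} : Set X))).IsSubnormal)
    (hq : IsQuasisimple K) (hE : K ≤ layer X) :
    ∃ J : Subgroup X, IsComponent J ∧ (¬ ∀ k ∈ K, ∀ j ∈ J, k * j = j * k) ∧
      (K ≤ J ∨ (J.map (MulAut.conj a).toMonoidHom ≠ J ∧
        ∀ k, k ∈ K ↔ ∃ j ∈ J, k = j * (a * j * a⁻¹))) := by
  have hP : ⁅K, K⁆ = K := commutator_self_of_quasisimple hq
  have hKne : K ≠ ⊥ := ne_bot_of_quasisimple hq
  have hai : a⁻¹ = a := inv_eq_of_mul_eq_one_left ha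
  have hex : ∃ J : Subgroup X, IsComponent J ∧ ¬ ∀ k ∈ K, ∀ j ∈ J, k * j = j * k := by
    by_contra hno
    push Not at hno
    have hle : layer X ≤ centralizer (K : Set X) := by
      rw [layer]
      apply sSup_le
      intro J hJ j hj
      rw [mem_centralizer_iff]
      intro k hk
      exact hno J hJ k hk j hj
    have : ⁅K, K⁆ = ⊥ := by
      rw [commutator_eq_bot_iff_le_centralizer]
      exact hE.trans hle
    rw [hP] at this
    exact hKne this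
  obtain ⟨J, hJ, hnc⟩ := hex
  refine ⟨J, hJ, hnc, ?_⟩
  have hnc' : ¬ K ≤ centralizer (J : Set X) := by
    intro h
    apply hnc
    intro k hk j hj
    exact (mem_centralizer_iff.mp (h hk) j hj).symm
  -- normal in the layer
  have hnJ : ∀ k ∈ K, ∀ j ∈ J, k * j * k⁻¹ ∈ J := fun k hk j hj =>
    conj_mem_of_mem_layer hJ (hE hk) hj
  -- the conjugate component
  set J' := J.map (MulAut.conj a).toMonoidHom with hJ'def
  have hJ' : IsComponent J' := isComponent_conj a hJ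
  have haJ : ∀ j ∈ J, a * j * a⁻¹ ∈ J' := fun j hj => ⟨j, hj, by simp [MulAut.conj_apply]⟩
  have haa : ∀ j : X, a * (a * j * a⁻¹) * a⁻¹ = j := by
    intro j
    calc a * (a * j * a⁻¹) * a⁻¹ = (a * a) * j * (a⁻¹ * a⁻¹) := by group
      _ = j := by rw [hai, ha]; group
  have haJ' : ∀ j ∈ J', a * j * a⁻¹ ∈ J := by
    rintro _ ⟨j, hj, rfl⟩
    simp only [MulEquiv.coe_toMonoidHom, MulAut.conj_apply]
    rwa [haa]
  -- the subgroup `C₀`: elements of `C(a)` centralizing `J` and `J'`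
  let W : Subgroup X := centralizer (J : Set X) ⊓ centralizer (J' : Set X)
  let C₀ : Subgroup X := W ⊓ centralizer ({a} : Set X)
  have hWJ : ∀ y ∈ W, ∀ j ∈ J, y * j = j * y := fun y hy j hj =>
    (mem_centralizer_iff.mp hy.1 j hj).symm
  have hWJ' : ∀ y ∈ W, ∀ j ∈ J', y * j = j * y := fun y hy j hj =>
    (mem_centralizer_iff.mp hy.2 j hj).symm
  have hC₀J : ∀ y ∈ C₀, ∀ j ∈ J, y * j = j * y := fun y hy => hWJ y hy.1
  have hWa : ∀ w ∈ W, a * w * a⁻¹ ∈ W := by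
    intro w hw
    refine mem_inf.mpr ⟨?_, ?_⟩
    · rw [mem_centralizer_iff]
      intro j hj
      have h1 := hWJ' w hw _ (haJ j hj)
      have e1 : a * (w * (a * j * a⁻¹)) * a⁻¹ = a * ((a * j * a⁻¹) * w) * a⁻¹ := by rw [h1]
      have e0 : a * j * a⁻¹ = a⁻¹ * j * a := by rw [hai]
      have e2 : a * (w * (a * j * a⁻¹)) * a⁻¹ = (a * w * a⁻¹) * j := by
        rw [e0]; group
      have e3 : a * ((a * j * a⁻¹) * w) * a⁻¹ = j * (a * w * a⁻¹) := by
        rw [e0]; group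
      rw [e2, e3] at e1
      exact e1.symm
    · rw [mem_centralizer_iff]
      intro j hj
      have h1 := hWJ w hw _ (haJ' j hj)
      have e1 : a * (w * (a * j * a⁻¹)) * a⁻¹ = a * ((a * j * a⁻¹) * w) * a⁻¹ := by rw [h1]
      have e0 : a * j * a⁻¹ = a⁻¹ * j * a := by rw [hai]
      have e2 : a * (w * (a * j * a⁻¹)) * a⁻¹ = (a * w * a⁻¹) * j := by
        rw [e0]; group
      have e3 : a * ((a * j * a⁻¹) * w) * a⁻¹ = j * (a * w * a⁻¹) := by
        rw [e0]; group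
      rw [e2, e3] at e1
      exact e1.symm
  -- the component `K` of `C(a)`
  have hKZ : K ≤ centralizer ({a} : Set X) := fun k hk => mem_centralizer_singleton_iff.mpr (hKa k hk)
  have hK₀ : IsComponent (K.subgroupOf (centralizer ({a} : Set X))) :=
    ⟨hs, (quasisimple_subgroupOf_iff hKZ).mpr hq⟩
  -- `K` centralizes `C₀`
  have hKC₀ : ⁅K, C₀⁆ = ⊥ := by
    apply commutator_eq_bot_of_perfect hP
    rw [commutator_eq_bot_iff_le_centralizer, commutator_le]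
    intro k hk y hy
    have hyK : ∀ k ∈ K, y * k * y⁻¹ ∈ K := by
      rcases conj_mem_or_comm hKZ hK₀ hy.2 with h | h
      · exact h
      · exact absurd (centralizes_of_comm_conj hP hnJ (hC₀J y hy) h) hnc'
    rw [commutatorElement_def]
    exact commutator_central hq hnJ hnc' (hC₀J y hy) hyK hk
  have hKC₀' : ∀ k ∈ K, ∀ y ∈ C₀, k * y = y * k := by
    intro k hk y hy
    have h1 := Subgroup.commutator_mem_commutator hk hy
    rw [hKC₀, mem_bot, commutatorElement_eq_one_iff_mul_comm] at h1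
    exact h1
  -- the join of `J` and `J'`
  let D : Subgroup X := J ⊔ J'
  have hDa : ∀ d ∈ D, a * d * a⁻¹ ∈ D := by
    have hle : D ≤ D.comap (MulAut.conj a).toMonoidHom := by
      apply sup_le
      · intro j hj
        exact (le_sup_right : J' ≤ D) (haJ j hj)
      · intro j hj
        exact (le_sup_left : J ≤ D) (haJ' j hj)
    intro d hd
    exact hle hd
  have hDW : ∀ d ∈ D, ∀ w ∈ W, d * w = w * d := by
    intro d hd w hw
    have hle : D ≤ centralizer ({w} : Set X) := by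
      apply sup_le
      · intro j hj
        exact mem_centralizer_singleton_iff.mpr (hWJ w hw j hj).symm
      · intro j hj
        exact mem_centralizer_singleton_iff.mpr (hWJ' w hw j hj).symm
    exact mem_centralizer_singleton_iff.mp (hle hd)
  -- decomposition
  have hdec : ∀ k ∈ layer X, ∃ d ∈ D, ∃ w ∈ W, d * w = k := by
    intro k hk
    obtain ⟨j, hj, c, hc, rfl⟩ := exists_decomp hJ hk
    by_cases he : J' = J
    · refine ⟨j, (le_sup_left : J ≤ D) hj, c, mem_inf.mpr ⟨?_, ?_⟩, rfl⟩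
      · rw [mem_centralizer_iff]
        intro x hx
        exact (hc x hx).symm
      · rw [mem_centralizer_iff, he]
        intro x hx
        exact (hc x hx).symm
    · have hcl : c ∈ layer X := by
        have := (layer X).mul_mem ((layer X).inv_mem (le_layer_of_isComponent hJ hj)) hk
        simpa using this
      obtain ⟨j', hj', c', hc', rfl⟩ := exists_decomp hJ' hcl
      refine ⟨j * j', D.mul_mem ((le_sup_left : J ≤ D) hj) ((le_sup_right : J' ≤ D) hj'), c',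
        mem_inf.mpr ⟨?_, ?_⟩, by group⟩
      · rw [mem_centralizer_iff]
        intro x hx
        have h1 := hc x hx
        have h2 : j' * x = x * j' := commute_of_ne hJ' hJ he hj' hx
        have h3 : j' * (c' * x) = j' * (x * c') := by
          calc j' * (c' * x) = j' * c' * x := by group
            _ = x * (j' * c') := h1
            _ = (x * j') * c' := by group
            _ = (j' * x) * c' := by rw [h2]
            _ = j' * (x * c') := by group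
        exact (mul_left_cancel h3).symm
      · rw [mem_centralizer_iff]
        intro x hx
        exact (hc' x hx).symm
  -- an intermediate description of elements of `K`
  have hfix : ∀ k ∈ K, a * k * a⁻¹ = k := by
    intro k hk
    rw [← hKa k hk]
    group
  -- commutators of the `W`-parts are fixed by `a`
  have hwpart : ∀ d ∈ D, ∀ w ∈ W, d * w ∈ K → ∃ u ∈ D ⊓ W, a * w * a⁻¹ = u * w := by
    intro d hd w hw hk
    refine ⟨(a * w * a⁻¹) * w⁻¹, ⟨?_, W.mul_mem (hWa w hw) (W.inv_mem hw)⟩, by group⟩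
    have h1 := hfix _ hk
    have h2 : (a * d * a⁻¹) * (a * w * a⁻¹) = d * w := by
      rw [← h1]; group
    have h3 : (a * w * a⁻¹) * w⁻¹ = (a * d * a⁻¹)⁻¹ * d := by
      have h4 : (a * w * a⁻¹) = (a * d * a⁻¹)⁻¹ * (d * w) := by
        rw [← h2]; group
      rw [h4]; group
    rw [h3]
    exact D.mul_mem (D.inv_mem (hDa d hd)) hd
  have hwcomm : ∀ d₁ ∈ D, ∀ w₁ ∈ W, d₁ * w₁ ∈ K → ∀ d₂ ∈ D, ∀ w₂ ∈ W, d₂ * w₂ ∈ K →
      ⁅w₁, w₂⁆ ∈ C₀ := by
    intro d₁ hd₁ w₁ hw₁ hk₁ d₂ hd₂ w₂ hw₂ hk₂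
    have hWc : ⁅w₁, w₂⁆ ∈ W := by
      rw [commutatorElement_def]
      exact W.mul_mem (W.mul_mem (W.mul_mem hw₁ hw₂) (W.inv_mem hw₁)) (W.inv_mem hw₂)
    refine mem_inf.mpr ⟨hWc, ?_⟩
    obtain ⟨u₁, hu₁, e₁⟩ := hwpart d₁ hd₁ w₁ hw₁ hk₁
    obtain ⟨u₂, hu₂, e₂⟩ := hwpart d₂ hd₂ w₂ hw₂ hk₂
    rw [mem_centralizer_singleton_iff]
    have hconj : a * ⁅w₁, w₂⁆ * a⁻¹ = ⁅a * w₁ * a⁻¹, a * w₂ * a⁻¹⁆ := by
      rw [commutatorElement_def, commutatorElement_def]; group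
    rw [e₁, e₂, commutator_mul_of_commute (hDW u₁ hu₁.1 w₁ hw₁) (hDW u₁ hu₁.1 w₂ hw₂)
      (hDW u₂ hu₂.1 w₁ hw₁) (hDW u₂ hu₂.1 w₂ hw₂)] at hconj
    have huu : ⁅u₁, u₂⁆ = 1 := by
      rw [commutatorElement_eq_one_iff_mul_comm]
      exact hDW u₁ hu₁.1 u₂ hu₂.2
    rw [huu, one_mul] at hconj
    calc ⁅w₁, w₂⁆ * a = (a * ⁅w₁, w₂⁆ * a⁻¹) * a := by rw [hconj]
      _ = a * ⁅w₁, w₂⁆ := by group
  -- first step: `K ≤ D ⊔ C₀`
  have hC₀W : C₀ ≤ W := inf_le_left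
  have hKDC : K ≤ D ⊔ C₀ := by
    conv_lhs => rw [← hP]
    rw [commutator_le]
    intro k₁ hk₁ k₂ hk₂
    obtain ⟨d₁, hd₁, w₁, hw₁, rfl⟩ := hdec _ (hE hk₁)
    obtain ⟨d₂, hd₂, w₂, hw₂, rfl⟩ := hdec _ (hE hk₂)
    rw [commutator_mul_of_commute (hDW d₁ hd₁ w₁ hw₁) (hDW d₁ hd₁ w₂ hw₂) (hDW d₂ hd₂ w₁ hw₁)
      (hDW d₂ hd₂ w₂ hw₂)]
    refine mul_mem (mem_sup_left ?_) (mem_sup_right (hwcomm d₁ hd₁ w₁ hw₁ hk₁ d₂ hd₂ w₂ hw₂ hk₂))
    rw [commutatorElement_def]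
    exact D.mul_mem (D.mul_mem (D.mul_mem hd₁ hd₂) (D.inv_mem hd₁)) (D.inv_mem hd₂)
  -- second step: `K ≤ D`
  have hDC : ⁅D, C₀⁆ = ⊥ := by
    rw [commutator_eq_bot_iff_le_centralizer]
    intro d hd
    rw [mem_centralizer_iff]
    intro y hy
    exact (hDW d hd y (hC₀W hy)).symm
  have hKD : K ≤ D := by
    conv_lhs => rw [← hP]
    rw [commutator_le]
    intro k₁ hk₁ k₂ hk₂
    obtain ⟨d₁, hd₁, c₁, hc₁, rfl⟩ := mem_sup_of_commutator_eq_bot hDC (hKDC hk₁)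
    obtain ⟨d₂, hd₂, c₂, hc₂, rfl⟩ := mem_sup_of_commutator_eq_bot hDC (hKDC hk₂)
    have hcc : ⁅c₁, c₂⁆ = 1 := by
      rw [commutatorElement_eq_one_iff_mul_comm]
      have h1 := hKC₀' _ hk₁ c₂ hc₂
      have h2 := hDW d₁ hd₁ c₂ (hC₀W hc₂)
      have h3 : d₁ * (c₁ * c₂) = d₁ * (c₂ * c₁) := by
        calc d₁ * (c₁ * c₂) = d₁ * c₁ * c₂ := by group
          _ = c₂ * (d₁ * c₁) := h1
          _ = (c₂ * d₁) * c₁ := by group
          _ = (d₁ * c₂) * c₁ := by rw [h2]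
          _ = d₁ * (c₂ * c₁) := by group
      exact mul_left_cancel h3
    rw [commutator_mul_of_commute (hDW d₁ hd₁ c₁ (hC₀W hc₁)) (hDW d₁ hd₁ c₂ (hC₀W hc₂))
      (hDW d₂ hd₂ c₁ (hC₀W hc₁)) (hDW d₂ hd₂ c₂ (hC₀W hc₂)), hcc, mul_one,
      commutatorElement_def]
    exact D.mul_mem (D.mul_mem (D.mul_mem hd₁ hd₂) (D.inv_mem hd₁)) (D.inv_mem hd₂)
  by_cases he : J' = J
  · left
    have : D = J := by
      show J ⊔ J' = J
      rw [he, sup_idem]
    rwa [this] at hKD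
  right
  refine ⟨he, ?_⟩
  -- the diagonal
  have hJJ' : ∀ x ∈ J, ∀ y ∈ J', x * y = y * x := fun x hx y hy =>
    commute_of_ne hJ hJ' (Ne.symm he) hx hy
  have hbJ : ⁅J, J'⁆ = ⊥ := by
    rw [commutator_eq_bot_iff_le_centralizer]
    intro x hx
    rw [mem_centralizer_iff]
    intro y hy
    exact (hJJ' x hx y hy).symm
  let ψ : J →* X :=
    { toFun := fun j => (j : X) * (a * j * a⁻¹)
      map_one' := by simp
      map_mul' := fun x y => by
        have h1 := hJJ' y y.2 _ (haJ x x.2)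
        simp only [Subgroup.coe_mul]
        calc (x : X) * y * (a * (x * y) * a⁻¹) = x * (y * (a * x * a⁻¹)) * (a * y * a⁻¹) := by group
          _ = x * ((a * x * a⁻¹) * y) * (a * y * a⁻¹) := by rw [h1]
          _ = _ := by group }
  have hψ : ∀ j : J, ψ j = (j : X) * (a * j * a⁻¹) := fun _ => rfl
  have hψa : ∀ j : J, ψ j ∈ centralizer ({a} : Set X) := by
    intro j
    rw [mem_centralizer_singleton_iff, hψ]
    have h1 := hJJ' j j.2 _ (haJ j j.2)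
    calc (j : X) * (a * j * a⁻¹) * a = (a * j * a⁻¹) * j * a := by rw [h1]
      _ = a * j * (a⁻¹ * j * a) := by group
      _ = a * j * (a * j * a⁻¹) := by rw [hai]
      _ = a * ((j : X) * (a * j * a⁻¹)) := by group
  -- elements of `K` are `ψ j` up to central elements
  have hKψ : ∀ k ∈ K, ∃ j : J, ∃ z, z ∈ J ∧ z ∈ J' ∧ k = ψ j * z := by
    intro k hk
    obtain ⟨j₁, hj₁, j₂, hj₂, rfl⟩ := mem_sup_of_commutator_eq_bot hbJ (hKD hk)
    have h1 := hfix _ hk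
    have hu₂ := haJ j₁ hj₁
    have hu₁ := haJ' j₂ hj₂
    have h2 : (a * j₂ * a⁻¹) * (a * j₁ * a⁻¹) = j₁ * j₂ := by
      have e : a * (j₁ * j₂) * a⁻¹ = (a * j₁ * a⁻¹) * (a * j₂ * a⁻¹) := by group
      rw [e, (hJJ' _ hu₁ _ hu₂).symm] at h1
      exact h1
    refine ⟨⟨j₁, hj₁⟩, (a * j₁ * a⁻¹)⁻¹ * j₂, ?_, ?_, ?_⟩
    · have h3 : j₂ = (j₁⁻¹ * (a * j₂ * a⁻¹)) * (a * j₁ * a⁻¹) := by
        rw [mul_assoc, h2]; group
      have hm : j₁⁻¹ * (a * j₂ * a⁻¹) ∈ J := J.mul_mem (J.inv_mem hj₁) hu₁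
      have h4 := hJJ' _ hm _ hu₂
      have e : (a * j₁ * a⁻¹)⁻¹ * j₂ = j₁⁻¹ * (a * j₂ * a⁻¹) := by
        calc (a * j₁ * a⁻¹)⁻¹ * j₂
            = (a * j₁ * a⁻¹)⁻¹ * ((j₁⁻¹ * (a * j₂ * a⁻¹)) * (a * j₁ * a⁻¹)) := by rw [← h3]
          _ = (a * j₁ * a⁻¹)⁻¹ * ((a * j₁ * a⁻¹) * (j₁⁻¹ * (a * j₂ * a⁻¹))) := by rw [h4]
          _ = j₁⁻¹ * (a * j₂ * a⁻¹) := by group
      rw [e]
      exact hm
    · exact J'.mul_mem (J'.inv_mem hu₂) hj₂
    · rw [hψ]; group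
  have hψz : ∀ (j : J) (z : X), z ∈ J → z ∈ J' → ψ j * z = z * ψ j := by
    intro j z hz hz'
    rw [hψ]
    have h1 := hJJ' j j.2 z hz'
    have h2 := hJJ' z hz _ (haJ j j.2)
    calc (j : X) * (a * j * a⁻¹) * z = j * ((a * j * a⁻¹) * z) := by group
      _ = j * (z * (a * j * a⁻¹)) := by rw [h2]
      _ = (j * z) * (a * j * a⁻¹) := by group
      _ = (z * j) * (a * j * a⁻¹) := by rw [h1]
      _ = _ := by group
  have hKY : K ≤ ψ.range := by
    conv_lhs => rw [← hP]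
    rw [commutator_le]
    intro k₁ hk₁ k₂ hk₂
    obtain ⟨j₁, z₁, hz₁, hz₁', rfl⟩ := hKψ k₁ hk₁
    obtain ⟨j₂, z₂, hz₂, hz₂', rfl⟩ := hKψ k₂ hk₂
    rw [commutator_mul_of_commute (hψz j₁ z₁ hz₁ hz₁') (hψz j₁ z₂ hz₂ hz₂') (hψz j₂ z₁ hz₁ hz₁')
      (hψz j₂ z₂ hz₂ hz₂')]
    have hzz : ⁅z₁, z₂⁆ = 1 := by
      rw [commutatorElement_eq_one_iff_mul_comm]
      exact hJJ' z₁ hz₁ z₂ hz₂'
    rw [hzz, mul_one]
    refine ⟨⁅j₁, j₂⁆, ?_⟩
    rw [commutatorElement_def, commutatorElement_def]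
    simp only [map_mul, map_inv]
  -- `ψ.range ≤ K`
  have hYZ : ψ.range ≤ centralizer ({a} : Set X) := by
    rintro _ ⟨j, rfl⟩
    exact hψa j
  have hYs : (K.subgroupOf ψ.range).IsSubnormal := by
    have h1 := hs.comap (Subgroup.inclusion hYZ)
    have h2 : (K.subgroupOf (centralizer ({a} : Set X))).comap (Subgroup.inclusion hYZ) =
        K.subgroupOf ψ.range := by
      ext x
      rfl
    rwa [h2] at h1
  have hYnt : Nontrivial ψ.range := by
    rw [Subgroup.nontrivial_iff_ne_bot]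
    intro h
    rw [h, le_bot_iff] at hKY
    exact hKne hKY
  have hYq : IsQuasisimple ψ.range :=
    quasisimple_of_surjective ψ.rangeRestrict ψ.rangeRestrict_surjective hJ.2
  have hYK : ψ.range ≤ K := by
    rcases subnormal_eq_top_or_le_center hYq hYs with ht | hc
    · exact subgroupOf_eq_top.mp ht
    · exfalso
      apply hKne
      rw [← hP, eq_bot_iff, commutator_le]
      intro x hx y hy
      have h1 : (⟨x, hKY hx⟩ : ψ.range) ∈ center ψ.range := hc hx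
      have h2 := mem_center_iff.mp h1 ⟨y, hKY hy⟩
      rw [mem_bot, commutatorElement_eq_one_iff_mul_comm]
      exact (congrArg Subtype.val h2).symm
  intro k
  constructor
  · intro hk
    obtain ⟨j, rfl⟩ := hKY hk
    exact ⟨j, j.2, rfl⟩
  · rintro ⟨j, hj, rfl⟩
    exact hYK ⟨⟨j, hj⟩, rfl⟩

end Cfsg.Agent.Lib.StdComp.Pump
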